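import Cfsg.Agent.H561.D4.Boxes

/-!
# S4311, the row `PΩ₈⁺(q)`: BOX Z (helper473)
-/

set_option autoImplicit false
set_option linter.unusedSectionVars false

namespace Cfsg.Agent.H473.D4

open Module QuadraticMap Cfsg.Agent.H167.OP Cfsg.Agent.H170.HL Cfsg.Agent.H170.HL.OmRow Cfsg.Agent.H556.Om
open Cfsg Subgroup Cfsg.Agent.H485.RV Cfsg.Agent.H561.RV Cfsg.Agent.H561.D4

variable {F : Type} [Field F] {ι : Type} [Fintype ι] [DecidableEq ι] {Q : QuadraticForm F (ι → F)}
  {E : Fin 2 × A4 → ι → F}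

/-- weaker hypotheses -/
structure Q7 (Q : QuadraticForm F (ι → F)) : Prop where
  two : (2 : F) ≠ 0
  gq : GoodQ Q
  dim : Fintype.card ι = 8

theorem q7 (h : Q8 Q) : Q7 Q := ⟨h.two, h.gq, h.dim⟩

/-- the centre of `Omega` -/
theorem mem_cen (h : Q7 Q) (g : Cfsg.Omega F (⇑Q)) :
    g ∈ Subgroup.center (Cfsg.Omega F (⇑Q)) ↔ rep (inc (⇑Q)) g = 1 ∨ rep (inc (⇑Q)) g = -1 := by
  rw [Cfsg.Agent.LieClassical.OmegaCenter.mem_center_omega_iff Q h.gq.nd h.gq.card h.gq.sing]
  have h1 : rep (inc (⇑Q)) g = (Matrix.toLinAlgEquiv' : Matrix ι ι F ≃ₐ[F] Module.End F (ι → F)) (inc (⇑Q) g) := rfl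
  have h2 : ∀ M : Matrix ι ι F, rep (inc (⇑Q)) g = (Matrix.toLinAlgEquiv' : Matrix ι ι F ≃ₐ[F] Module.End F (ι → F)) M ↔
      inc (⇑Q) g = M := by
    intro M
    rw [h1]
    exact (Matrix.toLinAlgEquiv' : Matrix ι ι F ≃ₐ[F] Module.End F (ι → F)).injective.eq_iff
  have h3 := h2 1
  have h4 := h2 (-1)
  rw [map_one] at h3
  rw [map_neg, map_one] at h4
  rw [h3, h4]
  exact Iff.rfl

theorem card_idx : Fintype.card (Fin 2 × A4) = 8 := by decide

/-- a full frame spans -/
theorem frame_span (h : Q7 Q) (hF : Frame (polarBilin Q) E) : Submodule.span F (Set.range E) = ⊤ := by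
  refine (hF.linearIndependent h.two).span_eq_top_of_card_eq_finrank' ?_
  rw [Module.finrank_fintype_fun_eq_card, h.dim, card_idx]

theorem orth_zero (h : Q7 Q) (hF : Frame (polarBilin Q) E) {w : ι → F} (hw : ∀ j, polarBilin Q (E j) w = 0) :
    w = 0 := by
  have h1 : ∀ u : ι → F, polarBilin Q u w = 0 := by
    intro u
    have hu : u ∈ Submodule.span F (Set.range E) := by
      rw [frame_span h hF]
      trivial
    induction hu using Submodule.span_induction with
    | mem v hv =>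
      obtain ⟨j, rfl⟩ := hv
      exact hw j
    | zero => rw [map_zero, LinearMap.zero_apply]
    | add v v' _ _ h1 h2 => rw [map_add, LinearMap.add_apply, h1, h2, add_zero]
    | smul c v _ h1 => rw [map_smul, LinearMap.smul_apply, h1, smul_zero]
  exact h.gq.nd.2 w h1

/-- linear maps agreeing on a full frame are equal -/
theorem ext8 (h : Q7 Q) (hF : Frame (polarBilin Q) E) {φ ψ : Module.End F (ι → F)} (h1 : ∀ j, φ (E j) = ψ (E j)) :
    φ = ψ := by
  refine ext_frame hF h.two h1 fun w hw => ?_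
  rw [orth_zero h hF hw, map_zero, map_zero]

theorem trace_sg (h : Q8 Q) (hF : Frame (polarBilin Q) E) {i j : Fin 2 × A4} (hij : i ≠ j) :
    LinearMap.trace F (ι → F) (mono (polarBilin Q) E (H556.Om.sg F i j) id) = 4 := by
  unfold mono
  rw [map_add, map_sum, LinearMap.trace_one, Module.finrank_fintype_fun_eq_card, h.dim]
  have h1 : ∀ k : Fin 2 × A4, LinearMap.trace F (ι → F) ((polarBilin Q (E k)).smulRight
      ((2 : F)⁻¹ • (H556.Om.sg F i j k • E (id k) - E k))) = (if k = i then (-2 : F) else 0) + if k = j then (-2 : F) else 0 := by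
    intro k
    rw [LinearMap.trace_smulRight, map_smul, map_sub, map_smul, id, hF.self, smul_eq_mul, smul_eq_mul]
    have h2 : (2 : F)⁻¹ * (H556.Om.sg F i j k * 2 - 2) = H556.Om.sg F i j k - 1 := by
      field_simp [h.two]
    rw [h2]
    unfold H556.Om.sg
    by_cases hi : k = i
    · have hj : k ≠ j := fun hj => hij (hi.symm.trans hj)
      simp only [hi, true_or, if_true]
      rw [if_neg hij]
      ring
    · by_cases hj : k = j
      · simp only [hj, or_true, if_true]
        rw [if_neg (Ne.symm hij)]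
        ring
      · rw [if_neg (by tauto), if_neg hi, if_neg hj]
        ring
  rw [Finset.sum_congr rfl fun k _ => h1 k, Finset.sum_add_distrib, Finset.sum_ite_eq', Finset.sum_ite_eq',
    if_pos (Finset.mem_univ _), if_pos (Finset.mem_univ _)]
  norm_num

theorem rep_mul (g x : Cfsg.Omega F (⇑Q)) (v : ι → F) :
    rep (inc (⇑Q)) (g * x) v = rep (inc (⇑Q)) g (rep (inc (⇑Q)) x v) := by
  rw [map_mul, Module.End.mul_apply]

/-- an element commuting with the sign changes modulo the centre commutes with them -/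
theorem comm_sg (h : Q8 Q) (hF : Frame (polarBilin Q) E) {i j : Fin 2 × A4} (hij : i ≠ j)
    {g x : Cfsg.Omega F (⇑Q)} (hx : rep (inc (⇑Q)) x = mono (polarBilin Q) E (H556.Om.sg F i j) id)
    (hg : g * x * g⁻¹ * x⁻¹ ∈ Subgroup.center (Cfsg.Omega F (⇑Q))) : g * x = x * g := by
  have h1 : g * x * g⁻¹ = (g * x * g⁻¹ * x⁻¹) * x := by group
  rcases (mem_cen (q7 h) _).1 hg with h2 | h2
  · have h3 : g * x * g⁻¹ * x⁻¹ = 1 := rep_inj (by rw [h2, map_one])
    rw [h3, one_mul] at h1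
    exact mul_inv_eq_iff_eq_mul.1 h1
  · exfalso
    have h3 : rep (inc (⇑Q)) g * rep (inc (⇑Q)) x * rep (inc (⇑Q)) g⁻¹ = - rep (inc (⇑Q)) x := by
      rw [← map_mul, ← map_mul, h1, map_mul, h2]
      exact neg_one_mul (rep (inc (⇑Q)) x)
    have h4 : LinearMap.trace F (ι → F) (rep (inc (⇑Q)) g * rep (inc (⇑Q)) x * rep (inc (⇑Q)) g⁻¹) =
        LinearMap.trace F (ι → F) (rep (inc (⇑Q)) x) := by
      rw [LinearMap.trace_mul_comm, ← mul_assoc, ← map_mul, inv_mul_cancel, map_one, one_mul]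
    rw [h3, map_neg, hx, trace_sg h hF hij] at h4
    have h5 : (2 : F) * (2 * 2) = 0 := by linear_combination -h4
    have h6 := h.two
    simp [h6] at h5

/-- the diagonal form -/
theorem exists_diag (h : Q8 Q) (hF : Frame (polarBilin Q) E) {g : Cfsg.Omega F (⇑Q)}
    (hg : ∀ x ∈ PM h.two hF, g * x * g⁻¹ * x⁻¹ ∈ Subgroup.center (Cfsg.Omega F (⇑Q))) :
    ∃ s : Fin 2 × A4 → F, (∀ j, s j * s j = 1) ∧ ∀ j, rep (inc (⇑Q)) g (E j) = s j • E j := by
  have key : ∀ j : Fin 2 × A4, ∃ c : F, rep (inc (⇑Q)) g (E j) = c • E j := by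
    intro j
    refine ⟨(2 : F)⁻¹ * polarBilin Q (E j) (rep (inc (⇑Q)) g (E j)), ?_⟩
    rw [← sub_eq_zero]
    refine orth_zero (q7 h) hF fun k => ?_
    rw [map_sub, map_smul, smul_eq_mul]
    by_cases hkj : k = j
    · subst hkj
      rw [hF.self]
      field_simp [h.two]
      ring
    · rw [hF.orth k j hkj, mul_zero, sub_zero]
      -- choose `i` different from `j, k`
      obtain ⟨i, hij, hik⟩ : ∃ i : Fin 2 × A4, i ≠ j ∧ i ≠ k := by
        clear * -
        revert j k
        decide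
      obtain ⟨x, hx⟩ := exists_sg h.gq h.two hF hij.symm
      have h1 := comm_sg h hF hij.symm hx (hg x (sg_mem_PM h.two hF hx))
      have h2 := congrArg (fun y : Cfsg.Omega F (⇑Q) => rep (inc (⇑Q)) y (E j)) h1
      simp only [rep_mul] at h2
      rw [hx, mono_e hF h.two] at h2
      have h3 : H556.Om.sg F j i j = -1 := by simp [H556.Om.sg]
      rw [h3, id, map_smul] at h2
      -- pair with `E k`
      have h4 := congrArg (fun v => polarBilin Q (E k) v) h2
      have h5 : mono (polarBilin Q) E (H556.Om.sg F j i) id (E k) = E k := by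
        rw [mono_e hF h.two]
        have : H556.Om.sg F j i k = 1 := by
          unfold H556.Om.sg
          rw [if_neg]
          rintro (h | h)
          · exact hkj h
          · exact hik h.symm
        rw [this, one_smul, id]
      have h6 : polarBilin Q (E k) (mono (polarBilin Q) E (H556.Om.sg F j i) id (rep (inc (⇑Q)) g (E j))) =
          polarBilin Q (E k) (rep (inc (⇑Q)) g (E j)) := by
        conv_lhs => rw [← h5, ← hx]
        exact polar_omega x _ _
      rw [h6, map_smul, smul_eq_mul] at h4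
      have h7 : (2 : F) * polarBilin Q (E k) (rep (inc (⇑Q)) g (E j)) = 0 := by linear_combination -h4
      exact (mul_eq_zero.1 h7).resolve_left h.two
  choose s hs using key
  refine ⟨s, fun j => ?_, hs⟩
  have h1 := polar_omega g (E j) (E j)
  rw [hs j, map_smul, map_smul, LinearMap.smul_apply, hF.self, smul_eq_mul, smul_eq_mul] at h1
  have h2 : (2 : F) * (s j * s j - 1) = 0 := by linear_combination h1
  exact sub_eq_zero.1 ((mul_eq_zero.1 h2).resolve_left h.two)

theorem exists_z (h : Q8 Q) (hF : Frame (polarBilin Q) E) : ∃ z, IsZ Q E z := by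
  have h01 : ((0, (0, 0)) : Fin 2 × A4) ≠ (0, (0, 1)) := by decide
  have h23 : ((0, (1, 0)) : Fin 2 × A4) ≠ (0, (1, 1)) := by decide
  obtain ⟨x, hx⟩ := exists_sg h.gq h.two hF h01
  obtain ⟨y, hy⟩ := exists_sg h.gq h.two hF h23
  refine ⟨x * y, ?_⟩
  show rep (inc (⇑Q)) (x * y) = _
  rw [map_mul, hx, hy, mono_mul hF h.two]
  congr 1
  funext a
  have h8 : ∀ a : Fin 2 × A4, (a.1 = 0 ↔ (a = (0, (0, 0)) ∨ a = (0, (0, 1))) ∨ (a = (0, (1, 0)) ∨ a = (0, (1, 1)))) ∧
      ¬ ((a = (0, (0, 0)) ∨ a = (0, (0, 1))) ∧ (a = (0, (1, 0)) ∨ a = (0, (1, 1)))) := by decide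
  obtain ⟨h9, h10⟩ := h8 a
  simp only [H556.Om.sg, s0, id]
  by_cases h11 : a = (0, (0, 0)) ∨ a = (0, (0, 1))
  · rw [if_neg (fun h => h10 ⟨h11, h⟩), if_pos h11, if_pos (h9.2 (Or.inl h11)), one_mul]
  · by_cases h12 : a = (0, (1, 0)) ∨ a = (0, (1, 1))
    · rw [if_pos h12, if_neg h11, if_pos (h9.2 (Or.inr h12)), mul_one]
    · rw [if_neg h12, if_neg h11, if_neg (fun h => (h9.1 h).elim h11 h12), mul_one]

/-- the signs are constant on the blocks -/
theorem sign_const (h : Q8 Q) (hF : Frame (polarBilin Q) E) {g : Cfsg.Omega F (⇑Q)}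
    (hg : ∀ x ∈ PM h.two hF, g * x * g⁻¹ * x⁻¹ ∈ Subgroup.center (Cfsg.Omega F (⇑Q)))
    {s : Fin 2 × A4 → F} (hs : ∀ j, rep (inc (⇑Q)) g (E j) = s j • E j) (k : Fin 2) (c : A4) :
    s (k, c) = s (k, 0) := by
  -- translation by `c` of the block `k`
  set σ := pp 1 (fun _ => false) (fun l => if l = k then c else 0) with hσ
  have h1 : Equiv.Perm.sign σ = 1 := sign_pp 1 false _
  obtain ⟨x, hx⟩ := exists_perm h.gq h.two hF h1
  have hxP : x ∈ PM h.two hF := perm_mem_PM h.two hF (pp_mem _ _ _) hx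
  have h2 := hg x hxP
  have hE : ∀ j, E j ≠ 0 := by
    intro j hj
    have h3 := hF.self j
    rw [hj, map_zero] at h3
    exact h.two h3.symm
  have hsc : ∀ (j : Fin 2 × A4) {a b : F}, a • E j = b • E j → a = b := by
    intro j a b hab
    have h3 := congrArg (fun v => polarBilin Q (E j) v) hab
    simp only [map_smul, hF.self, smul_eq_mul] at h3
    exact mul_right_cancel₀ h.two h3
  have hxe : ∀ j, rep (inc (⇑Q)) x (E j) = E (σ j) := fun j => by rw [hx, mono_e hF h.two, one_smul]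
  have h3 : g * x = (g * x * g⁻¹ * x⁻¹) * (x * g) := by group
  obtain ⟨ε, hε⟩ : ∃ ε : F, ∀ v, rep (inc (⇑Q)) (g * x * g⁻¹ * x⁻¹) v = ε • v := by
    rcases (mem_cen (q7 h) _).1 h2 with h4 | h4
    · exact ⟨1, fun v => by rw [h4, one_smul, Module.End.one_apply]⟩
    · exact ⟨-1, fun v => by rw [h4, neg_one_smul, LinearMap.neg_apply, Module.End.one_apply]⟩
  have h4 : ∀ j, s (σ j) = ε * s j := by
    intro j
    have h5 := congrArg (fun y : Cfsg.Omega F (⇑Q) => rep (inc (⇑Q)) y (E j)) h3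
    rw [rep_mul, hxe, hs, rep_mul, hε, rep_mul, hs, map_smul, hxe, smul_smul] at h5
    exact hsc _ h5
  have hs0 : ∀ j, s j ≠ 0 := by
    intro j hj
    have h5 := polar_omega g (E j) (E j)
    rw [hs, hj, zero_smul, map_zero, hF.self] at h5
    exact h.two h5.symm
  -- `ε = 1`: a point of the other block is fixed
  have hε1 : ε = 1 := by
    obtain ⟨l, hl⟩ : ∃ l : Fin 2, l ≠ k := by
      clear * -
      revert k
      decide
    have h5 := h4 (l, 0)
    have h6 : σ (l, 0) = (l, 0) := by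
      rw [hσ, pp_apply, if_neg hl]
      rfl
    rw [h6] at h5
    have h7 : (ε - 1) * s (l, 0) = 0 := by linear_combination -h5
    exact sub_eq_zero.1 ((mul_eq_zero.1 h7).resolve_right (hs0 _))
  have h5 := h4 (k, 0)
  have h6 : σ (k, 0) = (k, c) := by
    rw [hσ, pp_apply, if_pos rfl]
    show (k, lin false 0 + c) = (k, c)
    rw [show lin false 0 = (0 : A4) from rfl, zero_add]
  rw [h6, hε1, one_mul] at h5
  exact h5

/-- **BOX Z** -/
theorem boxZ : BoxZ Q := by
  intro h E hF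
  refine ⟨exists_z h hF, fun z g hz hg => ?_⟩
  obtain ⟨s, hs1, hs⟩ := exists_diag h hF hg
  have hc := sign_const h hF hg hs
  have hz' : ∀ j, rep (inc (⇑Q)) z (E j) = s0 F j • E j := fun j => by
    have : rep (inc (⇑Q)) z = mono (polarBilin Q) E (s0 F) id := hz
    rw [this, mono_e hF h.two, id]
  have hz2 : ∀ j, rep (inc (⇑Q)) z⁻¹ (E j) = s0 F j • E j := by
    intro j
    have h1 : rep (inc (⇑Q)) z⁻¹ (rep (inc (⇑Q)) z (E j)) = E j := by
      rw [← rep_mul, inv_mul_cancel, map_one, Module.End.one_apply]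
    rw [hz', map_smul] at h1
    have h2 : s0 F j * s0 F j = 1 := by
      unfold s0
      split_ifs <;> ring
    calc rep (inc (⇑Q)) z⁻¹ (E j) = (s0 F j * s0 F j) • rep (inc (⇑Q)) z⁻¹ (E j) := by rw [h2, one_smul]
      _ = s0 F j • (s0 F j • rep (inc (⇑Q)) z⁻¹ (E j)) := by rw [smul_smul]
      _ = _ := by rw [h1]
  have hgz : ∀ j, rep (inc (⇑Q)) (g * z⁻¹) (E j) = (s0 F j * s j) • E j := by
    intro j
    rw [rep_mul, hz2, map_smul, hs, smul_smul]
  have e0 := mul_self_eq_one_iff.1 (hs1 (0, 0))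
  have e1 := mul_self_eq_one_iff.1 (hs1 (1, 0))
  have hcase : ∀ j : Fin 2 × A4, (j.1 = 0 ∧ s j = s (0, 0)) ∨ (j.1 = 1 ∧ s j = s (1, 0)) := by
    rintro ⟨k, c⟩
    have hk : k = 0 ∨ k = 1 := by omega
    rcases hk with rfl | rfl
    · exact Or.inl ⟨rfl, hc 0 c⟩
    · exact Or.inr ⟨rfl, hc 1 c⟩
  have n1 : ∀ v : ι → F, ((1 : Module.End F (ι → F)) v) = (1 : F) • v := fun v => by rw [one_smul, Module.End.one_apply]
  have n2 : ∀ v : ι → F, ((-1 : Module.End F (ι → F)) v) = (-1 : F) • v := fun v => by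
    rw [neg_one_smul, LinearMap.neg_apply, Module.End.one_apply]
  rw [mem_cen (q7 h), mem_cen (q7 h)]
  rcases e0 with e0 | e0 <;> rcases e1 with e1 | e1
  · left; left
    refine ext8 (q7 h) hF fun j => ?_
    rw [hs, n1]
    rcases hcase j with h5 | h5
    · rw [h5.2, e0]
    · rw [h5.2, e1]
  · right; right
    refine ext8 (q7 h) hF fun j => ?_
    rw [hgz, n2]
    rcases hcase j with h5 | h5
    · rw [h5.2, e0, s0, if_pos h5.1, mul_one]
    · rw [h5.2, e1, s0, if_neg (by rw [h5.1]; decide), one_mul]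
  · right; left
    refine ext8 (q7 h) hF fun j => ?_
    rw [hgz, n1]
    rcases hcase j with h5 | h5
    · rw [h5.2, e0, s0, if_pos h5.1]
      congr 1
      ring
    · rw [h5.2, e1, s0, if_neg (by rw [h5.1]; decide), mul_one]
  · left; right
    refine ext8 (q7 h) hF fun j => ?_
    rw [hs, n2]
    rcases hcase j with h5 | h5
    · rw [h5.2, e0]
    · rw [h5.2, e1]

end Cfsg.Agent.H473.D4
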